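import Cfsg.Agent.H750.F43.UTwo

/-!
# Eigenpoints of an element of `Sp₆(3)` (S2464, `F₄(3)`, box E44; helper415)

* `exists_transv` : an element with a fixed space of dimension at least `5` is a transvection (or `1`);
* `card_eigen_le` : if neither `l` nor `-l` is a transvection (or `1`), then at most `88` vectors `v ≠ 0`
  satisfy `l v = v` or `l v = -v`.
-/

set_option autoImplicit false

namespace Cfsg.Agent.H415.F43

open Cfsg Matrix Module
open Cfsg.Agent.H700.F43 Cfsg.Agent.H750.F43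
open Cfsg.Agent.ClassicalGeometry.SympBasic

local notation "f" => sympForm 3 F3

/-- the linear map of `l` -/
noncomputable abbrev lm (l : Sp) : V6 →ₗ[F3] V6 := Matrix.mulVecLin l.1

/-- eigenvectors for `1` -/
noncomputable abbrev Ep (l : Sp) : Submodule F3 V6 := LinearMap.ker (lm l - 1)

/-- eigenvectors for `-1` -/
noncomputable abbrev Em (l : Sp) : Submodule F3 V6 := LinearMap.ker (lm l + 1)

theorem mem_Ep {l : Sp} {v : V6} : v ∈ Ep l ↔ l.1 *ᵥ v = v := by
  rw [LinearMap.mem_ker, LinearMap.sub_apply, sub_eq_zero]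
  rfl

theorem mem_Em {l : Sp} {v : V6} : v ∈ Em l ↔ l.1 *ᵥ v = -v := by
  rw [LinearMap.mem_ker, LinearMap.add_apply, ← eq_neg_iff_add_eq_zero]
  rfl

/-- an element with a fixed space of dimension at least five is a transvection (or `1`) -/
theorem exists_transv {l : Sp} (h : 5 ≤ finrank F3 (Ep l)) : ∃ (w : V6) (k : F3), l = transv w k := by
  have h6 : finrank F3 V6 = 6 := by simp
  have h1 := LinearMap.finrank_range_add_finrank_ker (lm l - 1)
  rw [h6] at h1
  change finrank F3 (LinearMap.range (lm l - 1)) + finrank F3 (Ep l) = 6 at h1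
  have h2 : finrank F3 (LinearMap.range (lm l - 1)) ≤ 1 := by omega
  obtain ⟨⟨w, _⟩, hw⟩ := finrank_le_one_iff.1 h2
  have h3 : ∀ x : V6, ∃ c : F3, l.1 *ᵥ x = x + c • w := by
    intro x
    obtain ⟨c, hc⟩ := hw ⟨(lm l - 1) x, LinearMap.mem_range_self _ x⟩
    have h4 := congrArg Subtype.val hc
    change c • w = l.1 *ᵥ x - x at h4
    exact ⟨c, by rw [h4]; abel⟩
  choose a ha using h3
  by_cases hw0 : w = 0
  · refine ⟨0, 0, ext_mv fun v => ?_⟩
    rw [ha, hw0, smul_zero, add_zero, coe_transv, sympTransvection_zero, Matrix.one_mulVec]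
  obtain ⟨y, hy⟩ : ∃ y, f y w ≠ 0 := by
    by_contra hno
    push Not at hno
    exact hw0 (eq_zero_of_forall_sympForm_left hno)
  have key : ∀ x : V6, a y * f x w = a x * f y w := by
    intro x
    have h5 := fm l x y
    rw [ha x, ha y, sympForm_add_left, sympForm_add_right, sympForm_add_right, sympForm_smul_right,
      sympForm_smul_left, sympForm_smul_left, sympForm_smul_right, sympForm_self, sympForm_swap w y] at h5
    linear_combination h5
  refine ⟨w, a y * (f y w)⁻¹, ext_mv fun x => ?_⟩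
  rw [coe_transv, sympTransvection_mulVec, ha x]
  congr 2
  have h7 := key x
  have h8 : a x = a y * f x w * (f y w)⁻¹ := by
    rw [h7, mul_assoc, mul_inv_cancel₀ hy, mul_one]
  rw [h8]
  ring

theorem Em_eq (l : Sp) : Em l = Ep (ng * l) := by
  ext v
  rw [mem_Em, mem_Ep, mul_mv]
  change _ ↔ (-1 : Matrix (Fin 3 ⊕ Fin 3) (Fin 3 ⊕ Fin 3) F3) *ᵥ (l.1 *ᵥ v) = v
  rw [Matrix.neg_mulVec, Matrix.one_mulVec, neg_eq_iff_eq_neg]

theorem disj (l : Sp) : Disjoint (Ep l) (Em l) := by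
  rw [Submodule.disjoint_def]
  intro v h1 h2
  rw [mem_Ep] at h1
  rw [mem_Em, h1] at h2
  funext i
  have h3 := congrFun h2 i
  have h4 : ∀ c : F3, c = -c → c = 0 := by decide
  exact h4 _ h3

theorem ncard_sub (W : Submodule F3 V6) : ((W : Set V6) \ {0}).ncard = 3 ^ finrank F3 W - 1 := by
  rw [Set.ncard_sdiff_singleton_of_mem (Submodule.zero_mem W)]
  congr 1
  have h1 := Module.natCard_eq_pow_finrank (K := F3) (V := W)
  rw [Nat.card_zmod] at h1
  exact h1

/-- **at most `88` eigenvectors** -/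
theorem ncard_eigen_le {l : Sp} (h1 : ∀ (v : V6) (k : F3), l ≠ transv v k)
    (h2 : ∀ (v : V6) (k : F3), ng * l ≠ transv v k) :
    {v : V6 | v ≠ 0 ∧ (l.1 *ᵥ v = v ∨ l.1 *ᵥ v = -v)}.ncard ≤ 88 := by
  have ha : finrank F3 (Ep l) ≤ 4 := by
    by_contra hlt
    obtain ⟨w, k, hk⟩ := exists_transv (l := l) (by omega)
    exact h1 w k hk
  have hb : finrank F3 (Em l) ≤ 4 := by
    by_contra hlt
    rw [Em_eq] at hlt
    obtain ⟨w, k, hk⟩ := exists_transv (l := ng * l) (by omega)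
    exact h2 w k hk
  have hab : finrank F3 (Ep l) + finrank F3 (Em l) ≤ 6 := by
    have h6 : finrank F3 V6 = 6 := by simp
    have h7 := Submodule.finrank_add_le_finrank_add_finrank (Ep l) (Em l)
    have h8 := Submodule.finrank_sup_add_finrank_inf_eq (Ep l) (Em l)
    rw [(disj l).eq_bot, finrank_bot, add_zero] at h8
    rw [← h8, ← h6]
    exact Submodule.finrank_le _
  have hS : {v : V6 | v ≠ 0 ∧ (l.1 *ᵥ v = v ∨ l.1 *ᵥ v = -v)} =
      ((Ep l : Set V6) \ {0}) ∪ ((Em l : Set V6) \ {0}) := by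
    ext v
    simp only [Set.mem_ofPred_eq, Set.mem_union, Set.mem_sdiff, SetLike.mem_coe, mem_Ep, mem_Em,
      Set.mem_singleton_iff]
    tauto
  rw [hS]
  refine (Set.ncard_union_le _ _).trans ?_
  rw [ncard_sub, ncard_sub]
  generalize finrank F3 (Ep l) = a at *
  generalize finrank F3 (Em l) = b at *
  interval_cases a <;> interval_cases b <;> omega

/-- the same with `Nat.card` -/
theorem card_eigen_le {l : Sp} (h1 : ∀ (v : V6) (k : F3), l ≠ transv v k)
    (h2 : ∀ (v : V6) (k : F3), ng * l ≠ transv v k) :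
    Nat.card {v : V6 // v ≠ 0 ∧ (l.1 *ᵥ v = v ∨ l.1 *ᵥ v = -v)} ≤ 88 :=
  ncard_eigen_le h1 h2

/-- the form with `k ≠ 0`, `v ≠ 0` and `l ≠ ±1` -/
theorem card_eigen_le' {l : Sp} (h1 : l ≠ 1) (h1' : l ≠ ng)
    (h2 : ∀ (v : V6) (k : F3), v ≠ 0 → k ≠ 0 → l ≠ transv v k)
    (h3 : ∀ (v : V6) (k : F3), v ≠ 0 → k ≠ 0 → ng * l ≠ transv v k) :
    Nat.card {v : V6 // v ≠ 0 ∧ (l.1 *ᵥ v = v ∨ l.1 *ᵥ v = -v)} ≤ 88 := by
  have t0 : ∀ k : F3, (transv (0 : V6) k : Sp) = 1 := fun k => ext_mv fun v => by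
    rw [coe_transv, sympTransvection_mulVec, smul_zero, add_zero, one_mv]
  have t1 : ∀ v : V6, (transv v 0 : Sp) = 1 := fun v => Subtype.ext (sympTransvection_zero v)
  have hn : (ng : Sp) * ng = 1 := by
    apply Subtype.ext
    change (-1 : Matrix (Fin 3 ⊕ Fin 3) (Fin 3 ⊕ Fin 3) F3) * -1 = 1
    simp
  have h4 : ng * l ≠ 1 := by
    intro h
    apply h1'
    have h5 := congrArg (fun x => ng * x) h
    simp only [← mul_assoc, hn, one_mul, mul_one] at h5
    exact h5
  refine card_eigen_le (fun v k h => ?_) (fun v k h => ?_)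
  · by_cases hv : v = 0
    · exact h1 (by rw [h, hv, t0])
    by_cases hk : k = 0
    · exact h1 (by rw [h, hk, t1])
    exact h2 v k hv hk h
  · by_cases hv : v = 0
    · exact h4 (by rw [h, hv, t0])
    by_cases hk : k = 0
    · exact h4 (by rw [h, hk, t1])
    exact h3 v k hv hk h

end Cfsg.Agent.H415.F43
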